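import Mathlib

/-! Morphisms from a union of subalgebras of a domain to a scheme of finite type. -/

open AlgebraicGeometry CategoryTheory Limits

universe u

namespace Groth.Agent.LimDomain

set_option autoImplicit false

/-- Maps from `Spec R` into an affine scheme are detected by an injection `R → R'`. -/
theorem ext_of_injective {R R' : Type u} [CommRing R] [CommRing R'] (φ : R →+* R')
    (hφ : Function.Injective φ) {Y : Scheme.{u}} [IsAffine Y]
    (a b : Spec (CommRingCat.of R) ⟶ Y)
    (h : Spec.map (CommRingCat.ofHom φ) ≫ a = Spec.map (CommRingCat.ofHom φ) ≫ b) : a = b := by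
  obtain ⟨a', ha⟩ := Spec.map_surjective (a ≫ Y.isoSpec.hom)
  obtain ⟨b', hb⟩ := Spec.map_surjective (b ≫ Y.isoSpec.hom)
  rw [← cancel_mono Y.isoSpec.hom, ← ha, ← hb]
  have h2 : Spec.map (a' ≫ CommRingCat.ofHom φ) = Spec.map (b' ≫ CommRingCat.ofHom φ) := by
    rw [Spec.map_comp, Spec.map_comp, ha, hb, reassoc_of% h]
  have h3 := Spec.map_injective h2
  congr 1
  ext x
  exact hφ (congrArg (fun m => m.hom x) h3)

variable {A C : Type u} [CommRing A] [CommRing C] [Algebra A C]

/-- The inclusion of a subalgebra, on localizations. -/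
noncomputable def awayIncl (T : Subalgebra A C) (c : T) :
    Localization.Away c →+* Localization.Away (c : C) :=
  IsLocalization.map (M := Submonoid.powers c) (T := Submonoid.powers (c : C))
    (Localization.Away (c : C)) T.val.toRingHom
    (by rintro x ⟨n, rfl⟩; exact ⟨n, rfl⟩)

theorem awayIncl_algebraMap (T : Subalgebra A C) (c : T) (x : T) :
    awayIncl T c (algebraMap T (Localization.Away c) x) = algebraMap C (Localization.Away (c : C)) x :=
  IsLocalization.map_eq _ x

theorem awayIncl_injective [IsDomain C] (T : Subalgebra A C) (c : T) (hc : (c : C) ≠ 0) :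
    Function.Injective (awayIncl T c) := by
  rw [injective_iff_map_eq_zero]
  intro z hz
  obtain ⟨x, ⟨y, n, rfl⟩, rfl⟩ := IsLocalization.exists_mk'_eq (Submonoid.powers c) z
  rw [awayIncl, IsLocalization.map_mk', IsLocalization.mk'_eq_zero_iff] at hz
  obtain ⟨⟨_, m, rfl⟩, hm⟩ := hz
  have hx : (x : C) = 0 := (mul_eq_zero.1 hm).resolve_left (pow_ne_zero m hc)
  rw [IsLocalization.mk'_eq_zero_iff]
  exact ⟨1, by rw [Subtype.ext hx (a2 := (0 : T)), mul_zero]⟩

/-- The inclusion of subalgebras, on localizations. -/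
noncomputable def awayStep {T T' : Subalgebra A C} (h : T ≤ T') (c : T) :
    Localization.Away c →+* Localization.Away (Subalgebra.inclusion h c) :=
  IsLocalization.map (M := Submonoid.powers c) (T := Submonoid.powers (Subalgebra.inclusion h c))
    (Localization.Away (Subalgebra.inclusion h c)) (Subalgebra.inclusion h).toRingHom
    (by rintro x ⟨n, rfl⟩; exact ⟨n, (map_pow _ _ _).symm⟩)

theorem awayStep_algebraMap {T T' : Subalgebra A C} (h : T ≤ T') (c x : T) :
    awayStep h c (algebraMap T _ x) =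
      algebraMap T' (Localization.Away (Subalgebra.inclusion h c)) (Subalgebra.inclusion h x) :=
  IsLocalization.map_eq _ x

theorem awayIncl_comp_step {T T' : Subalgebra A C} (h : T ≤ T') (c : T) :
    (awayIncl T' (Subalgebra.inclusion h c)).comp (awayStep h c) = awayIncl T c := by
  refine IsLocalization.ringHom_ext (Submonoid.powers c) ?_
  ext x
  show awayIncl T' (Subalgebra.inclusion h c) (awayStep h c (algebraMap T _ x)) = _
  rw [awayStep_algebraMap]
  exact (awayIncl_algebraMap T' _ _).trans (awayIncl_algebraMap T c x).symm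

variable {ι : Type u} (S : ι → Subalgebra A C)

/-- An open set of a stage containing a basic open of the limit contains it at some later stage. -/
theorem exists_basicOpen_le (hdir : Directed (· ≤ ·) S) (hcov : ∀ c : C, ∃ i, c ∈ S i) (i : ι)
    (e : S i) (O : Set (PrimeSpectrum (S i))) (hO : IsOpen O)
    (he : ∀ p : PrimeSpectrum C, (e : C) ∉ p.asIdeal → PrimeSpectrum.comap (S i).val.toRingHom p ∈ O) :
    ∃ (j : ι) (h : S i ≤ S j), ∀ p : PrimeSpectrum (S j), Subalgebra.inclusion h e ∉ p.asIdeal →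
      PrimeSpectrum.comap (Subalgebra.inclusion h).toRingHom p ∈ O := by
  classical
  haveI : Nonempty ι := ⟨i⟩
  obtain ⟨I, hI⟩ := (PrimeSpectrum.isClosed_iff_zeroLocus_ideal Oᶜ).1 hO.isClosed_compl
  have hrad : (e : C) ∈ (I.map (S i).val.toRingHom).radical := by
    rw [Ideal.radical_eq_sInf, Submodule.mem_sInf]
    rintro P ⟨hIP, hP⟩
    by_contra heP
    have hmem := he ⟨P, hP⟩ heP
    have hnot : PrimeSpectrum.comap (S i).val.toRingHom ⟨P, hP⟩ ∈ Oᶜ := by
      rw [hI, PrimeSpectrum.mem_zeroLocus]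
      exact fun x hx => hIP (Ideal.mem_map_of_mem _ hx)
    exact hnot hmem
  obtain ⟨n, hn⟩ := hrad
  obtain ⟨s, hs⟩ := (Submodule.mem_span_iff_exists_finset_subset).1
    (show (e : C) ^ n ∈ Submodule.span C ((S i).val.toRingHom '' (I : Set (S i))) from hn)
  obtain ⟨t, hts, -, hsum⟩ := hs
  choose st hst using fun x : C => hcov (s x)
  obtain ⟨j, hj⟩ := hdir.finset_le (insert i (t.image st))
  have hij : S i ≤ S j := hj i (Finset.mem_insert_self _ _)
  refine ⟨j, hij, fun p hp => ?_⟩
  by_contra hpO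
  have hp' : (PrimeSpectrum.comap (Subalgebra.inclusion hij).toRingHom p) ∈
      PrimeSpectrum.zeroLocus (I : Set (S i)) := hI ▸ hpO
  rw [PrimeSpectrum.mem_zeroLocus] at hp'
  refine hp (p.isPrime.mem_of_pow_mem n ?_)
  have hkey : ∀ x ∈ t, ∃ y ∈ p.asIdeal, ((y : S j) : C) = s x • x := by
    intro x hx
    obtain ⟨z, hz, rfl⟩ := hts hx
    have hsx : s ((S i).val.toRingHom z) ∈ S j :=
      hj _ (Finset.mem_insert_of_mem (Finset.mem_image_of_mem st hx)) (hst _)
    exact ⟨⟨_, hsx⟩ * Subalgebra.inclusion hij z, p.asIdeal.mul_mem_left _ (hp' hz), rfl⟩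
  choose y hy hy' using hkey
  have : Subalgebra.inclusion hij e ^ n = ∑ x ∈ t.attach, y x.1 x.2 := Subtype.ext (by
    rw [SubmonoidClass.coe_pow, AddSubmonoidClass.coe_finsetSum]
    simp only [hy', Subalgebra.coe_inclusion]
    rw [Finset.sum_attach t (fun x => s x • x), hsum])
  rw [this]
  exact Ideal.sum_mem _ fun x _ => hy x.1 x.2

/-- The composite of a local piece with a refinement is the given morphism. -/
theorem piece_refine {X : Scheme.{u}} (T : Subalgebra A C) (x e : T)
    (l : Localization.Away x →+* Localization.Away e)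
    (hl : l.comp (algebraMap T (Localization.Away x)) = algebraMap T (Localization.Away e))
    (a : Spec (CommRingCat.of (Localization.Away x)) ⟶ X) (g : Spec (CommRingCat.of C) ⟶ X)
    (ha : Spec.map (CommRingCat.ofHom (awayIncl T x)) ≫ a =
      Spec.map (CommRingCat.ofHom (algebraMap C (Localization.Away (x : C)))) ≫ g) :
    Spec.map (CommRingCat.ofHom (awayIncl T e)) ≫ Spec.map (CommRingCat.ofHom l) ≫ a =
      Spec.map (CommRingCat.ofHom (algebraMap C (Localization.Away (e : C)))) ≫ g := by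
  have hux : IsUnit (algebraMap C (Localization.Away (e : C)) (x : C)) := by
    have h1 := ((IsLocalization.Away.algebraMap_isUnit (S := Localization.Away x) x).map l).map
      (awayIncl T e)
    rw [show l (algebraMap T (Localization.Away x) x) = algebraMap T (Localization.Away e) x from
      RingHom.congr_fun hl x, awayIncl_algebraMap] at h1
    exact h1
  let l' : Localization.Away (x : C) →+* Localization.Away (e : C) :=
    IsLocalization.Away.lift (x : C) hux
  have hl' : (awayIncl T e).comp l = l'.comp (awayIncl T x) := by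
    refine IsLocalization.ringHom_ext (Submonoid.powers x) ?_
    ext y
    show awayIncl T e (l (algebraMap T _ y)) = l' (awayIncl T x (algebraMap T _ y))
    rw [show l (algebraMap T (Localization.Away x) y) = algebraMap T (Localization.Away e) y from
      RingHom.congr_fun hl y, awayIncl_algebraMap, awayIncl_algebraMap]
    exact (IsLocalization.Away.lift_eq (x : C) hux _).symm
  rw [← Category.assoc, ← Spec.map_comp, ← CommRingCat.ofHom_comp, hl', CommRingCat.ofHom_comp,
    Spec.map_comp, Category.assoc, ha, ← Category.assoc, ← Spec.map_comp, ← CommRingCat.ofHom_comp,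
    IsLocalization.Away.lift_comp]

set_option maxHeartbeats 1600000 in
theorem exists_lift [IsDomain C] (hdir : Directed (· ≤ ·) S) (hcov : ∀ c : C, ∃ i, c ∈ S i)
    (X : Scheme.{u}) (f : X ⟶ Spec (CommRingCat.of A)) [LocallyOfFiniteType f]
    (g : Spec (CommRingCat.of C) ⟶ X)
    (hg : g ≫ f = Spec.map (CommRingCat.ofHom (algebraMap A C))) :
    ∃ (i : ι) (g' : Spec (CommRingCat.of (S i)) ⟶ X),
      g' ≫ f = Spec.map (CommRingCat.ofHom (algebraMap A (S i))) ∧
      Spec.map (CommRingCat.ofHom (S i).val.toRingHom) ≫ g' = g := by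
  classical
  haveI : Nonempty ι := ⟨(hcov 0).choose⟩
  let ιC : ∀ c : C, Spec (CommRingCat.of (Localization.Away c)) ⟶ Spec (CommRingCat.of C) :=
    fun c => Spec.map (CommRingCat.ofHom (algebraMap C (Localization.Away c)))
  have hrange : ∀ (R : Type u) [CommRing R] (a : R),
      Set.range (Spec.map (CommRingCat.ofHom (algebraMap R (Localization.Away a)))).base =
        {p : PrimeSpectrum R | a ∉ p.asIdeal} := fun R _ a =>
    PrimeSpectrum.localization_away_comap_range (Localization.Away a) a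
  -- a finite cover
  have hloc : ∀ z : PrimeSpectrum C, ∃ (c : C) (V : X.Opens), IsAffineOpen V ∧ c ∉ z.asIdeal ∧
      ∀ p : PrimeSpectrum C, c ∉ p.asIdeal → g.base p ∈ V := by
    intro z
    obtain ⟨_, ⟨V, hV, rfl⟩, hzV, -⟩ := (X.isBasis_affineOpens).exists_subset_of_mem_open
      (Set.mem_univ (g.base z)) isOpen_univ
    obtain ⟨_, ⟨c, rfl⟩, hzc, hsub⟩ := PrimeSpectrum.isTopologicalBasis_basic_opens.exists_subset_of_mem_open
      (show z ∈ g.base ⁻¹' (V : Set X) from hzV) (V.isOpen.preimage g.continuous)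
    exact ⟨c, V, hV, hzc, fun p hp => hsub hp⟩
  choose c V hV hzc hsub using hloc
  have hc0 : ∀ z, c z ≠ 0 := fun z h => hzc z (by rw [h]; exact z.asIdeal.zero_mem)
  obtain ⟨t, ht⟩ : ∃ t : Finset (PrimeSpectrum C), Ideal.span (c '' (t : Set (PrimeSpectrum C))) = ⊤ := by
    obtain ⟨t, ht⟩ := isCompact_univ.elim_finite_subcover
      (fun z => (PrimeSpectrum.basicOpen (c z) : Set (PrimeSpectrum C)))
      (fun z => (PrimeSpectrum.basicOpen (c z)).isOpen) fun z _ => Set.mem_iUnion.2 ⟨z, hzc z⟩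
    refine ⟨t, ?_⟩
    rw [← PrimeSpectrum.zeroLocus_empty_iff_eq_top, PrimeSpectrum.zeroLocus_span]
    refine Set.eq_empty_iff_forall_notMem.2 fun p hp => ?_
    obtain ⟨z, hz, hpz⟩ := Set.mem_iUnion₂.1 (ht (Set.mem_univ p))
    exact hpz (hp ⟨z, hz, rfl⟩)
  -- pieces
  have hpiece : ∀ z, ∃ i, ∀ j, S i ≤ S j → ∀ hc : c z ∈ S j,
      ∃ a : Spec (CommRingCat.of (Localization.Away (⟨c z, hc⟩ : S j))) ⟶ (V z : Scheme.{u}),
        Spec.map (CommRingCat.ofHom (awayIncl (S j) ⟨c z, hc⟩)) ≫ a ≫ (V z).ι = ιC (c z) ≫ g := by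
    intro z
    haveI : IsAffine (V z : Scheme.{u}) := hV z
    have hr : Set.range (ιC (c z) ≫ g).base ⊆ Set.range (V z).ι.base := by
      rintro _ ⟨p, rfl⟩
      rw [Scheme.Opens.range_ι]
      refine hsub z _ ?_
      exact (hrange C (c z)).subset ⟨p, rfl⟩
    let gV := IsOpenImmersion.lift (V z).ι (ιC (c z) ≫ g) hr
    let fV := (V z : Scheme.{u}).isoSpec.inv ≫ (V z).ι ≫ f
    obtain ⟨α, hα⟩ := Spec.map_surjective fV
    obtain ⟨θ, hθ⟩ := Spec.map_surjective (gV ≫ (V z : Scheme.{u}).isoSpec.hom)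
    have hft : α.hom.FiniteType :=
      (HasRingHomProperty.Spec_iff (P := @LocallyOfFiniteType)).1 (hα ▸ inferInstanceAs (LocallyOfFiniteType fV))
    have hθα : α ≫ θ = CommRingCat.ofHom (algebraMap A (Localization.Away (c z))) := by
      apply Spec.map_injective
      rw [Spec.map_comp, hα, hθ, IsScalarTower.algebraMap_eq A C (Localization.Away (c z)),
        CommRingCat.ofHom_comp, Spec.map_comp, ← hg]
      simp only [fV, gV, Category.assoc, Iso.hom_inv_id_assoc, IsOpenImmersion.lift_fac_assoc]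
      rfl
    letI algB : Algebra A Γ((V z : Scheme.{u}), ⊤) := α.hom.toAlgebra
    obtain ⟨gens, hgens⟩ := hft
    have hnum : ∀ b : Γ((V z : Scheme.{u}), ⊤), ∃ (x : C) (n : ℕ),
        θ.hom b * algebraMap C (Localization.Away (c z)) (c z) ^ n = algebraMap C _ x := fun b => by
      obtain ⟨n, x, hx⟩ := IsLocalization.Away.surj (c z) (θ.hom b)
      exact ⟨x, n, hx⟩
    choose x n hx using hnum
    choose sx hsx using fun b => hcov (x b)
    obtain ⟨i, hi⟩ := hdir.finset_le (insert (hcov (c z)).choose (gens.image sx))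
    refine ⟨i, fun j hij hc => ?_⟩
    let cj : S j := ⟨c z, hc⟩
    let ψ := awayIncl (S j) cj
    have hψ : Function.Injective ψ := awayIncl_injective (S j) cj (hc0 z)
    have hmem : ∀ b, θ.hom b ∈ ψ.range := by
      intro b
      have hb : b ∈ Algebra.adjoin A (gens : Set Γ((V z : Scheme.{u}), ⊤)) := by
        rw [hgens]; exact Algebra.mem_top
      induction hb using Algebra.adjoin_induction with
      | mem b hb =>
        have hxj : x b ∈ S j := hij (hi _ (Finset.mem_insert_of_mem (Finset.mem_image_of_mem sx hb)) (hsx b))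
        refine ⟨algebraMap (S j) _ ⟨x b, hxj⟩ * IsLocalization.Away.invSelf cj ^ n b, ?_⟩
        have hu : IsUnit (algebraMap C (Localization.Away (c z)) (c z) ^ n b) :=
          (IsLocalization.Away.algebraMap_isUnit (c z)).pow _
        refine hu.mul_left_injective ?_
        show ψ _ * _ = _ * _
        rw [hx b, map_mul, map_pow, awayIncl_algebraMap, mul_assoc, ← mul_pow]
        have h1 : ψ (IsLocalization.Away.invSelf cj) * algebraMap C (Localization.Away (c z)) (c z) = 1 := by
          rw [show algebraMap C (Localization.Away (c z)) (c z) = ψ (algebraMap (S j) _ cj) from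
            (awayIncl_algebraMap (S j) cj cj).symm, ← map_mul, mul_comm, IsLocalization.Away.mul_invSelf,
            map_one]
        rw [h1, one_pow, mul_one]
      | algebraMap a =>
        refine ⟨algebraMap (S j) _ (algebraMap A (S j) a), ?_⟩
        rw [awayIncl_algebraMap]
        have := congrArg (fun m => m.hom a) hθα
        exact (IsScalarTower.algebraMap_apply A C (Localization.Away (c z)) a).symm.trans this.symm
      | add a b _ _ ha hb => rw [map_add]; exact add_mem ha hb
      | mul a b _ _ ha hb => rw [map_mul]; exact mul_mem ha hb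
    let eψ := RingEquiv.ofBijective ψ.rangeRestrict
      ⟨fun a b h => hψ (congrArg Subtype.val h), ψ.rangeRestrict_surjective⟩
    let β : Γ((V z : Scheme.{u}), ⊤) →+* Localization.Away cj :=
      eψ.symm.toRingHom.comp (θ.hom.codRestrict ψ.range hmem)
    refine ⟨Spec.map (CommRingCat.ofHom β) ≫ (V z : Scheme.{u}).isoSpec.inv, ?_⟩
    have hβ : CommRingCat.ofHom β ≫ CommRingCat.ofHom ψ = θ := by
      ext b
      exact congrArg Subtype.val (eψ.apply_symm_apply ⟨θ.hom b, hmem b⟩)
    rw [show Spec.map (CommRingCat.ofHom (awayIncl (S j) ⟨c z, hc⟩)) ≫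
        (Spec.map (CommRingCat.ofHom β) ≫ (V z : Scheme.{u}).isoSpec.inv) ≫ (V z).ι =
        (Spec.map (CommRingCat.ofHom ψ) ≫ Spec.map (CommRingCat.ofHom β)) ≫
          (V z : Scheme.{u}).isoSpec.inv ≫ (V z).ι by simp [ψ, cj], ← Spec.map_comp, hβ, hθ]
    simp [gV]
  choose ip hip using hpiece
  -- the coefficients of the unit ideal
  obtain ⟨coef, hcoef⟩ : ∃ coef : PrimeSpectrum C → C, ∑ z ∈ t, coef z * c z = 1 := by
    have h1 : (1 : C) ∈ Submodule.span C (c '' (t : Set (PrimeSpectrum C))) := by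
      rw [show Submodule.span C (c '' (t : Set (PrimeSpectrum C))) = ⊤ from ht]
      trivial
    obtain ⟨cf, hcf⟩ := (Submodule.mem_span_image_finset_iff_exists_fun C).1 h1
    refine ⟨fun z => if h : z ∈ t then cf ⟨z, h⟩ else 0, ?_⟩
    rw [← hcf, ← Finset.sum_coe_sort t]
    exact Finset.sum_congr rfl fun z _ => by simp
  choose scoef hscoef using fun z => hcov (coef z)
  choose sc hsc using fun z => hcov (c z)
  obtain ⟨i₁, hi₁⟩ := hdir.finset_le (t.image scoef ∪ t.image sc ∪ t.image ip)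
  have hcmem : ∀ z ∈ t, c z ∈ S i₁ := fun z hz =>
    hi₁ _ (by simp only [Finset.mem_union, Finset.mem_image]; exact Or.inl (Or.inr ⟨z, hz, rfl⟩)) (hsc z)
  have hpmem : ∀ z ∈ t, S (ip z) ≤ S i₁ := fun z hz =>
    hi₁ _ (by simp only [Finset.mem_union, Finset.mem_image]; exact Or.inr ⟨z, hz, rfl⟩)
  choose a₁ ha₁ using fun z : t => hip z.1 i₁ (hpmem z.1 z.2) (hcmem z.1 z.2)
  let c₁ : t → S i₁ := fun z => ⟨c z.1, hcmem z.1 z.2⟩
  let ι₁ : ∀ e : S i₁, Spec (CommRingCat.of (Localization.Away e)) ⟶ Spec (CommRingCat.of (S i₁)) :=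
    fun e => Spec.map (CommRingCat.ofHom (algebraMap (S i₁) (Localization.Away e)))
  haveI hoi : ∀ e : S i₁, IsOpenImmersion (ι₁ e) := fun e => IsOpenImmersion.of_isLocalization e
  -- overlaps at a later stage
  have hover : ∀ z w : t, ∃ (j : ι) (h : S i₁ ≤ S j), ∀ k (hk : S j ≤ S k),
      ∀ p : PrimeSpectrum (S k), Subalgebra.inclusion (h.trans hk) (c₁ z * c₁ w) ∉ p.asIdeal →
        PrimeSpectrum.comap (Subalgebra.inclusion (h.trans hk)).toRingHom p ∈
          (ι₁ (c₁ z)).base '' ((a₁ z ≫ (V z.1).ι).base ⁻¹' (V w.1 : Set X)) := by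
    intro z w
    obtain ⟨j, hj, hjp⟩ := exists_basicOpen_le S hdir hcov i₁ (c₁ z * c₁ w)
      ((ι₁ (c₁ z)).base '' ((a₁ z ≫ (V z.1).ι).base ⁻¹' (V w.1 : Set X)))
      ((ι₁ (c₁ z)).isOpenEmbedding.isOpenMap _ ((V w.1).isOpen.preimage (a₁ z ≫ (V z.1).ι).continuous))
      (fun p hp => by
        have hpz : c z.1 ∉ p.asIdeal := fun h => hp (p.asIdeal.mul_mem_right _ h)
        have hpw : c w.1 ∉ p.asIdeal := fun h => hp (p.asIdeal.mul_mem_left _ h)
        obtain ⟨q, rfl⟩ := (hrange C (c z.1)).ge hpz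
        refine ⟨(Spec.map (CommRingCat.ofHom (awayIncl (S i₁) (c₁ z)))).base q, ?_, ?_⟩
        · show (Spec.map (CommRingCat.ofHom (awayIncl (S i₁) (c₁ z))) ≫ a₁ z ≫ (V z.1).ι).base q ∈ V w.1
          rw [ha₁ z]
          exact hsub w.1 _ hpw
        · show (Spec.map (CommRingCat.ofHom (awayIncl (S i₁) (c₁ z))) ≫ ι₁ (c₁ z)).base q =
            (ιC (c z.1) ≫ Spec.map (CommRingCat.ofHom (S i₁).val.toRingHom)).base q
          rw [show Spec.map (CommRingCat.ofHom (awayIncl (S i₁) (c₁ z))) ≫ ι₁ (c₁ z) =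
            ιC (c z.1) ≫ Spec.map (CommRingCat.ofHom (S i₁).val.toRingHom) by
              rw [← Spec.map_comp, ← Spec.map_comp, ← CommRingCat.ofHom_comp, ← CommRingCat.ofHom_comp]
              congr 2
              ext x
              exact awayIncl_algebraMap (S i₁) (c₁ z) x])
    refine ⟨j, hj, fun k hk p hp => ?_⟩
    exact hjp (PrimeSpectrum.comap (Subalgebra.inclusion hk).toRingHom p) hp
  choose jo hjo hjop using hover
  obtain ⟨i₂, hi₂⟩ := hdir.finset_le (insert i₁ ((Finset.univ : Finset (t × t)).image fun q => jo q.1 q.2))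
  have h12 : S i₁ ≤ S i₂ := hi₂ _ (Finset.mem_insert_self _ _)
  let c₂ : t → S i₂ := fun z => Subalgebra.inclusion h12 (c₁ z)
  let a₂ : ∀ z : t, Spec (CommRingCat.of (Localization.Away (c₂ z))) ⟶ X := fun z =>
    Spec.map (CommRingCat.ofHom (awayStep h12 (c₁ z))) ≫ a₁ z ≫ (V z.1).ι
  have ha₂ : ∀ z : t, Spec.map (CommRingCat.ofHom (awayIncl (S i₂) (c₂ z))) ≫ a₂ z = ιC (c z.1) ≫ g := by
    intro z
    rw [← ha₁ z]
    show _ ≫ Spec.map _ ≫ _ = _
    rw [← Category.assoc, ← Spec.map_comp, ← CommRingCat.ofHom_comp, awayIncl_comp_step]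
    rfl
  have hspan : Ideal.span (Set.range c₂) = ⊤ := by
    rw [Ideal.eq_top_iff_one, Ideal.mem_span_range_iff_exists_fun]
    refine ⟨fun z => ⟨coef z.1, h12 (hi₁ _ (by
      simp only [Finset.mem_union, Finset.mem_image]; exact Or.inl (Or.inl ⟨z.1, z.2, rfl⟩)) (hscoef z.1))⟩,
      Subtype.ext ?_⟩
    rw [AddSubmonoidClass.coe_finsetSum, OneMemClass.coe_one, ← hcoef, ← Finset.sum_coe_sort t]
    exact Finset.sum_congr rfl fun z _ => rfl
  let 𝒰 : (Spec (CommRingCat.of (S i₂))).OpenCover :=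
    (Scheme.affineOpenCoverOfSpanRangeEqTop (R := CommRingCat.of (S i₂)) c₂ hspan).openCover
  let ι₂ : ∀ e : S i₂, Spec (CommRingCat.of (Localization.Away e)) ⟶ Spec (CommRingCat.of (S i₂)) :=
    fun e => Spec.map (CommRingCat.ofHom (algebraMap (S i₂) (Localization.Away e)))
  haveI hoi2 : ∀ e : S i₂, IsOpenImmersion (ι₂ e) := fun e => IsOpenImmersion.of_isLocalization e
  have hagree : ∀ z w : t, pullback.fst (ι₂ (c₂ z)) (ι₂ (c₂ w)) ≫ a₂ z =
      pullback.snd (ι₂ (c₂ z)) (ι₂ (c₂ w)) ≫ a₂ w := by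
    intro z w
    set e := c₂ z * c₂ w with he
    let lz : Localization.Away (c₂ z) →+* Localization.Away e :=
      IsLocalization.Away.lift (c₂ z) (g := algebraMap (S i₂) (Localization.Away e))
        (isUnit_of_mul_isUnit_left (y := algebraMap (S i₂) (Localization.Away e) (c₂ w))
          (by rw [← map_mul]; exact IsLocalization.Away.algebraMap_isUnit e))
    let lw : Localization.Away (c₂ w) →+* Localization.Away e :=
      IsLocalization.Away.lift (c₂ w) (g := algebraMap (S i₂) (Localization.Away e))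
        (isUnit_of_mul_isUnit_right (x := algebraMap (S i₂) (Localization.Away e) (c₂ z))
          (by rw [← map_mul]; exact IsLocalization.Away.algebraMap_isUnit e))
    have hz : Spec.map (CommRingCat.ofHom lz) ≫ ι₂ (c₂ z) = ι₂ e := by
      rw [← Spec.map_comp, ← CommRingCat.ofHom_comp, IsLocalization.Away.lift_comp]
    have hw : Spec.map (CommRingCat.ofHom lw) ≫ ι₂ (c₂ w) = ι₂ e := by
      rw [← Spec.map_comp, ← CommRingCat.ofHom_comp, IsLocalization.Away.lift_comp]
    let L := pullback.lift _ _ (hz.trans hw.symm)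
    have hL : L ≫ pullback.fst _ _ ≫ ι₂ (c₂ z) = ι₂ e := by rw [pullback.lift_fst_assoc, hz]
    haveI : IsOpenImmersion (L ≫ pullback.fst _ _ ≫ ι₂ (c₂ z)) := hL.symm ▸ hoi2 e
    haveI : IsOpenImmersion L := IsOpenImmersion.of_comp L (pullback.fst _ _ ≫ ι₂ (c₂ z))
    haveI : Surjective L := ⟨fun q => by
      set y := (pullback.fst (ι₂ (c₂ z)) (ι₂ (c₂ w)) ≫ ι₂ (c₂ z)).base q with hy
      have hyz : y ∈ Set.range (ι₂ (c₂ z)).base := ⟨_, rfl⟩
      have hyw : y ∈ Set.range (ι₂ (c₂ w)).base :=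
        ⟨(pullback.snd (ι₂ (c₂ z)) (ι₂ (c₂ w))).base q, by rw [hy, pullback.condition]; rfl⟩
      rw [hrange] at hyz hyw
      obtain ⟨q', hq'⟩ : y ∈ Set.range (ι₂ e).base := by
        rw [hrange]
        exact fun h => (PrimeSpectrum.isPrime y).mem_or_mem h |>.elim hyz hyw
      refine ⟨q', (pullback.fst (ι₂ (c₂ z)) (ι₂ (c₂ w)) ≫ ι₂ (c₂ z)).isOpenEmbedding.injective ?_⟩
      rw [← hy, ← hq', ← hL]
      rfl⟩
    haveI : IsIso L := (isIso_iff_isOpenImmersion_and_epi_base L).2
      ⟨inferInstance, (TopCat.epi_iff_surjective _).2 L.surjective⟩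
    rw [← cancel_epi L, pullback.lift_fst_assoc, pullback.lift_snd_assoc]
    -- both maps land in the affine open `V w`
    have hland : Set.range (Spec.map (CommRingCat.ofHom lz) ≫ a₂ z).base ⊆ Set.range (V w.1).ι.base := by
      rintro _ ⟨q, rfl⟩
      rw [Scheme.Opens.range_ι]
      set p := (ι₂ e).base q with hp
      have hpe : e ∉ p.asIdeal := (hrange (S i₂) e).le ⟨q, rfl⟩
      obtain ⟨s, hs, hsp⟩ := hjop z w i₂
        (hi₂ _ (Finset.mem_insert_of_mem (Finset.mem_image.2 ⟨(z, w), Finset.mem_univ _, rfl⟩))) p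
        (by rwa [map_mul])
      have key : (Spec.map (CommRingCat.ofHom lz) ≫ Spec.map (CommRingCat.ofHom (awayStep h12 (c₁ z)))).base q = s := by
        refine (ι₁ (c₁ z)).isOpenEmbedding.injective ?_
        rw [hsp, hp]
        show (Spec.map (CommRingCat.ofHom lz) ≫ Spec.map (CommRingCat.ofHom (awayStep h12 (c₁ z))) ≫
          ι₁ (c₁ z)).base q = (ι₂ e ≫ Spec.map (CommRingCat.ofHom (Subalgebra.inclusion h12).toRingHom)).base q
        rw [show Spec.map (CommRingCat.ofHom (awayStep h12 (c₁ z))) ≫ ι₁ (c₁ z) =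
            ι₂ (c₂ z) ≫ Spec.map (CommRingCat.ofHom (Subalgebra.inclusion h12).toRingHom) by
          rw [← Spec.map_comp, ← Spec.map_comp, ← CommRingCat.ofHom_comp, ← CommRingCat.ofHom_comp]
          congr 2
          ext x
          exact awayStep_algebraMap h12 (c₁ z) x, reassoc_of% hz]
      show (a₁ z ≫ (V z.1).ι).base
        ((Spec.map (CommRingCat.ofHom lz) ≫ Spec.map (CommRingCat.ofHom (awayStep h12 (c₁ z)))).base q) ∈ V w.1
      rw [key]
      exact hs
    let u := IsOpenImmersion.lift (V w.1).ι _ hland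
    let v := Spec.map (CommRingCat.ofHom lw) ≫ Spec.map (CommRingCat.ofHom (awayStep h12 (c₁ w))) ≫ a₁ w
    have huv : u = v := by
      haveI : IsAffine (V w.1 : Scheme.{u}) := hV w.1
      refine ext_of_injective (awayIncl (S i₂) e)
        (awayIncl_injective (S i₂) e (mul_ne_zero (hc0 z.1) (hc0 w.1))) u v ?_
      rw [← cancel_mono (V w.1).ι]
      simp only [u, v, Category.assoc, IsOpenImmersion.lift_fac]
      exact (piece_refine (S i₂) (c₂ z) e lz (IsLocalization.Away.lift_comp _ _) (a₂ z) g (ha₂ z)).trans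
        (piece_refine (S i₂) (c₂ w) e lw (IsLocalization.Away.lift_comp _ _) (a₂ w) g (ha₂ w)).symm
    calc Spec.map (CommRingCat.ofHom lz) ≫ a₂ z = u ≫ (V w.1).ι := (IsOpenImmersion.lift_fac _ _ _).symm
      _ = v ≫ (V w.1).ι := by rw [huv]
      _ = Spec.map (CommRingCat.ofHom lw) ≫ a₂ w := by simp only [v, a₂, Category.assoc]
  let G := 𝒰.glueMorphisms a₂ hagree
  have hG : Spec.map (CommRingCat.ofHom (S i₂).val.toRingHom) ≫ G = g := by
    refine Scheme.Cover.hom_ext (Scheme.affineOpenCoverOfSpanRangeEqTop (R := CommRingCat.of C)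
      (fun z : t => c z.1) (by rw [← ht]; congr 1; ext y; simp)).openCover _ _ fun (z : t) => ?_
    show ιC (c z.1) ≫ _ = ιC (c z.1) ≫ g
    rw [← ha₂ z, ← Category.assoc]
    rw [show ιC (c z.1) ≫ Spec.map (CommRingCat.ofHom (S i₂).val.toRingHom) =
        Spec.map (CommRingCat.ofHom (awayIncl (S i₂) (c₂ z))) ≫ ι₂ (c₂ z) by
      rw [← Spec.map_comp, ← Spec.map_comp, ← CommRingCat.ofHom_comp, ← CommRingCat.ofHom_comp]
      congr 2
      ext x
      exact (awayIncl_algebraMap (S i₂) (c₂ z) x).symm]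
    exact (Category.assoc _ _ _).trans
      (congrArg (fun m => Spec.map (CommRingCat.ofHom (awayIncl (S i₂) (c₂ z))) ≫ m)
        (𝒰.ι_glueMorphisms a₂ hagree z))
  refine ⟨i₂, G, ?_, hG⟩
  refine ext_of_injective (S i₂).val.toRingHom Subtype.val_injective _ _ ?_
  rw [← Category.assoc, hG, hg, ← Spec.map_comp, ← CommRingCat.ofHom_comp]
  rfl

end Groth.Agent.LimDomain
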